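import Mathlib.AlgebraicGeometry.AffineScheme
import Mathlib.AlgebraicGeometry.Cover.Open
import Mathlib.AlgebraicGeometry.Gluing
import Mathlib.RingTheory.Localization.Away.Basic

/-!
# Morphisms out of an affine scheme are determined by jointly injective rings

If `T → T₁ × T₂` is injective and `Spec T₁ ⟶ Spec T` is surjective, then two morphisms
`Spec T ⟶ X` to any scheme agreeing after restriction to both `Spec Tᵢ` are equal.
-/

universe u

open CategoryTheory AlgebraicGeometry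

namespace Groth.Agent.LieSLib

theorem affine_hom_ext {T T₁ T₂ : Type u} [CommRing T] [CommRing T₁] [CommRing T₂]
    (p₁ : T →+* T₁) (p₂ : T →+* T₂) (hinj : ∀ t, p₁ t = 0 → p₂ t = 0 → t = 0)
    {W : Scheme.{u}} [IsAffine W] (a b : Spec (CommRingCat.of T) ⟶ W)
    (h₁ : Spec.map (CommRingCat.ofHom p₁) ≫ a = Spec.map (CommRingCat.ofHom p₁) ≫ b)
    (h₂ : Spec.map (CommRingCat.ofHom p₂) ≫ a = Spec.map (CommRingCat.ofHom p₂) ≫ b) : a = b := by
  rw [← cancel_mono W.isoSpec.hom]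
  obtain ⟨φ, hφ⟩ := Spec.map_surjective (a ≫ W.isoSpec.hom)
  obtain ⟨ψ, hψ⟩ := Spec.map_surjective (b ≫ W.isoSpec.hom)
  have k₁ : φ ≫ CommRingCat.ofHom p₁ = ψ ≫ CommRingCat.ofHom p₁ := Spec.map_injective (by
    rw [Spec.map_comp, Spec.map_comp, hφ, hψ, ← Category.assoc, h₁, Category.assoc])
  have k₂ : φ ≫ CommRingCat.ofHom p₂ = ψ ≫ CommRingCat.ofHom p₂ := Spec.map_injective (by
    rw [Spec.map_comp, Spec.map_comp, hφ, hψ, ← Category.assoc, h₂, Category.assoc])
  rw [← hφ, ← hψ]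
  congr 1
  ext x
  refine sub_eq_zero.1 (hinj _ ?_ ?_)
  · rw [map_sub]; exact sub_eq_zero.2 (ConcreteCategory.congr_hom k₁ x)
  · rw [map_sub]; exact sub_eq_zero.2 (ConcreteCategory.congr_hom k₂ x)

theorem spec_hom_ext {T T₁ T₂ : Type u} [CommRing T] [CommRing T₁] [CommRing T₂]
    (p₁ : T →+* T₁) (p₂ : T →+* T₂) (hinj : ∀ t, p₁ t = 0 → p₂ t = 0 → t = 0)
    (hsurj : Function.Surjective (Spec.map (CommRingCat.ofHom p₁)))
    {X : Scheme.{u}} (a b : Spec (CommRingCat.of T) ⟶ X)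
    (h₁ : Spec.map (CommRingCat.ofHom p₁) ≫ a = Spec.map (CommRingCat.ofHom p₁) ≫ b)
    (h₂ : Spec.map (CommRingCat.ofHom p₂) ≫ a = Spec.map (CommRingCat.ofHom p₂) ≫ b) : a = b := by
  have hbase : ∀ q : PrimeSpectrum T, a q = b q := by
    intro q
    obtain ⟨q₁, rfl⟩ := hsurj q
    rw [← Scheme.Hom.comp_apply, ← Scheme.Hom.comp_apply, h₁]
  have hch : ∀ q : PrimeSpectrum T, ∃ g : T, q ∈ PrimeSpectrum.basicOpen g ∧
      ∃ W : X.Opens, IsAffineOpen W ∧
        ((PrimeSpectrum.basicOpen g : Set (PrimeSpectrum T)) ⊆ a ⁻¹' (W : Set X)) := by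
    intro q
    obtain ⟨_, ⟨W, hW, rfl⟩, hqW, -⟩ :=
      X.isBasis_affineOpens.exists_subset_of_mem_open (Set.mem_univ (a q)) isOpen_univ
    obtain ⟨_, ⟨g, rfl⟩, hq, hg⟩ := PrimeSpectrum.isTopologicalBasis_basic_opens.exists_subset_of_mem_open
      (show q ∈ a ⁻¹' (W : Set X) from hqW) (W.isOpen.preimage a.continuous)
    exact ⟨g, hq, W, hW, hg⟩
  choose g hg W hW hsub using hch
  have hspan : Ideal.span (Set.range g) = ⊤ := by
    rw [← PrimeSpectrum.iSup_basicOpen_eq_top_iff, eq_top_iff]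
    exact fun q _ => TopologicalSpace.Opens.mem_iSup.2 ⟨q, hg q⟩
  refine Scheme.Cover.hom_ext (Scheme.affineOpenCoverOfSpanRangeEqTop (R := CommRingCat.of T) g hspan).openCover _ _ fun q => ?_
  change Spec.map (CommRingCat.ofHom (algebraMap T (Localization.Away (g q)))) ≫ a =
    Spec.map (CommRingCat.ofHom (algebraMap T (Localization.Away (g q)))) ≫ b
  let L := Localization.Away (g q)
  let j : Spec (CommRingCat.of L) ⟶ Spec (CommRingCat.of T) :=
    Spec.map (CommRingCat.ofHom (algebraMap T L))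
  have hr : Set.range j = (PrimeSpectrum.basicOpen (g q) : Set (PrimeSpectrum T)) :=
    PrimeSpectrum.localization_away_comap_range L (g q)
  have ha : Set.range (j ≫ a) ⊆ Set.range (W q).ι := by
    rintro _ ⟨y, rfl⟩
    rw [Scheme.Opens.range_ι, Scheme.Hom.comp_apply]
    exact hsub q (hr ▸ Set.mem_range_self y)
  have hb : Set.range (j ≫ b) ⊆ Set.range (W q).ι := by
    rintro _ ⟨y, rfl⟩
    rw [Scheme.Opens.range_ι, Scheme.Hom.comp_apply, ← hbase]
    exact hsub q (hr ▸ Set.mem_range_self y)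
  show j ≫ a = j ≫ b
  rw [← IsOpenImmersion.lift_fac (W q).ι _ ha, ← IsOpenImmersion.lift_fac (W q).ι _ hb]
  congr 1
  have : IsAffine (W q) := hW q
  let M := Submonoid.powers (g q)
  refine affine_hom_ext
    (IsLocalization.map (Localization (M.map p₁)) p₁ (Submonoid.le_comap_map M) : L →+* _)
    (IsLocalization.map (Localization (M.map p₂)) p₂ (Submonoid.le_comap_map M) : L →+* _)
    ?_ _ _ ?_ ?_
  · intro t ht₁ ht₂
    obtain ⟨⟨x, s⟩, rfl⟩ := IsLocalization.mk'_surjective M t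
    rw [IsLocalization.map_mk', IsLocalization.mk'_eq_zero_iff] at ht₁ ht₂
    obtain ⟨⟨_, m₁, hm₁, rfl⟩, e₁⟩ := ht₁
    obtain ⟨⟨_, m₂, hm₂, rfl⟩, e₂⟩ := ht₂
    rw [IsLocalization.mk'_eq_zero_iff]
    refine ⟨⟨m₁ * m₂, M.mul_mem hm₁ hm₂⟩, hinj _ ?_ ?_⟩
    · dsimp only at e₁ ⊢
      rw [map_mul, map_mul, mul_right_comm, e₁, zero_mul]
    · dsimp only at e₂ ⊢
      rw [map_mul, map_mul, mul_assoc, e₂, mul_zero]
  all_goals
    rw [← cancel_mono (W q).ι, Category.assoc, Category.assoc, IsOpenImmersion.lift_fac,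
      IsOpenImmersion.lift_fac]
    simp only [j, ← Category.assoc, ← Spec.map_comp, ← CommRingCat.ofHom_comp, IsLocalization.map_comp]
    simp only [CommRingCat.ofHom_comp, Spec.map_comp, Category.assoc, h₁, h₂]

theorem spec_hom_ext_of_injective {T T₁ : Type u} [CommRing T] [CommRing T₁]
    (p : T →+* T₁) (hinj : Function.Injective p)
    (hsurj : Function.Surjective (Spec.map (CommRingCat.ofHom p)))
    {X : Scheme.{u}} (a b : Spec (CommRingCat.of T) ⟶ X)
    (h : Spec.map (CommRingCat.ofHom p) ≫ a = Spec.map (CommRingCat.ofHom p) ≫ b) : a = b :=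
  spec_hom_ext p p (fun _ ht _ => (injective_iff_map_eq_zero p).1 hinj _ ht) hsurj a b h h

end Groth.Agent.LieSLib
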