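import Groth.Prelude.Def_LieS
import Groth.Agent.LieSLib.Ext

/-!
# Additivity of points with values in dual numbers, restricted to the unit at the zero section
-/

universe u

open CategoryTheory MonoidalCategory CartesianMonoidalCategory MonObj AlgebraicGeometry

noncomputable section

namespace Groth.Agent.LieSLib

/-- `B[ε₁, ε₂]/(ε₁, ε₂)²`. -/
abbrev T3 (B : Type u) [CommRing B] : Type u := TrivSqZeroExt B (B × B)

variable {S : Scheme.{u}} (B : Type u) [CommRing B] (f : Spec (CommRingCat.of B) ⟶ S)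

def t3 : Over S := Over.mk (Spec.map (CommRingCat.ofHom (algebraMap B (T3 B))) ≫ f)

/-- `ε₁ ↦ aε, ε₂ ↦ bε`. -/
def restrHom (a b : B) : T3 B →+* DualNumber B :=
  (TrivSqZeroExt.map (a • LinearMap.fst B B B + b • LinearMap.snd B B B) : T3 B →ₐ[B] DualNumber B).toRingHom

/-- `ε ↦ aε₁ + bε₂`. -/
def combHom (a b : B) : DualNumber B →+* T3 B :=
  (TrivSqZeroExt.map ((a • LinearMap.id).prod (b • LinearMap.id)) : DualNumber B →ₐ[B] T3 B).toRingHom

theorem restrHom_algebraMap (a b : B) :
    (restrHom B a b).comp (algebraMap B (T3 B)) = algebraMap B (DualNumber B) :=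
  RingHom.ext fun r => by simp [restrHom, combHom]

theorem combHom_algebraMap (a b : B) :
    (combHom B a b).comp (algebraMap B (DualNumber B)) = algebraMap B (T3 B) :=
  RingHom.ext fun r => by simp [restrHom, combHom]

def restr (a b : B) : LieS.dpt B f ⟶ t3 B f :=
  Over.homMk (Spec.map (CommRingCat.ofHom (restrHom B a b))) (by
    change Spec.map _ ≫ Spec.map _ ≫ f = Spec.map _ ≫ f
    rw [← Category.assoc, LieS.specMap_comp, restrHom_algebraMap])

def comb (a b : B) : t3 B f ⟶ LieS.dpt B f :=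
  Over.homMk (Spec.map (CommRingCat.ofHom (combHom B a b))) (by
    change Spec.map _ ≫ Spec.map _ ≫ f = Spec.map _ ≫ f
    rw [← Category.assoc, LieS.specMap_comp, combHom_algebraMap])

theorem restr_comb (a b c d : B) :
    restr B f a b ≫ comb B f c d = LieS.scale B f (a * c + b * d) := by
  ext1
  change Spec.map _ ≫ Spec.map _ = Spec.map _
  rw [LieS.specMap_comp]
  congr 2
  refine RingHom.ext fun x => ?_
  apply TrivSqZeroExt.ext <;>
    simp [restrHom, combHom, LieS.scaleHom, TrivSqZeroExt.algebraMap_eq_inl', TrivSqZeroExt.fst_map,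
      TrivSqZeroExt.snd_map] <;> ring

theorem scale_zero : LieS.scale B f 0 = LieS.proj B f ≫ LieS.zeroSec B f := by
  ext1
  change Spec.map _ = Spec.map _ ≫ Spec.map _
  rw [LieS.specMap_comp]
  congr 2
  refine RingHom.ext fun x => ?_
  simp [LieS.scaleHom, TrivSqZeroExt.algebraMap_eq_inl']

theorem scale_one : LieS.scale B f 1 = 𝟙 _ := by
  ext1
  change Spec.map _ = 𝟙 _
  have h : LieS.scaleHom (1 : B) = RingHom.id _ := by
    refine RingHom.ext fun x => ?_
    apply TrivSqZeroExt.ext <;> simp [LieS.scaleHom, TrivSqZeroExt.algebraMap_eq_inl', -DualNumber.inr_eq_smul_eps]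
  rw [h, CommRingCat.ofHom_id]
  exact Spec.map_id _

theorem t3_hom_ext {X : Over S} (p q : t3 B f ⟶ X)
    (h₁ : restr B f 1 0 ≫ p = restr B f 1 0 ≫ q) (h₂ : restr B f 0 1 ≫ p = restr B f 0 1 ≫ q) :
    p = q := by
  ext1
  refine spec_hom_ext (restrHom B 1 0) (restrHom B 0 1) (fun t ht₁ ht₂ => ?_) ?_ _ _
    (congrArg CommaMorphism.left h₁) (congrArg CommaMorphism.left h₂)
  · have e1 := congrArg TrivSqZeroExt.fst ht₁
    have e2 := congrArg TrivSqZeroExt.snd ht₁
    have e3 := congrArg TrivSqZeroExt.snd ht₂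
    simp [restrHom, TrivSqZeroExt.fst_map, TrivSqZeroExt.snd_map] at e1 e2 e3
    exact TrivSqZeroExt.ext e1 (Prod.ext e2 e3)
  · have hsec : (restrHom B 1 0).comp (combHom B 1 0) = RingHom.id _ := by
      refine RingHom.ext fun x => ?_
      apply TrivSqZeroExt.ext <;> simp [restrHom, combHom, TrivSqZeroExt.fst_map, TrivSqZeroExt.snd_map]
    intro P
    have hnil : ∀ x : T3 B, ((combHom B 1 0).comp (restrHom B 1 0) x - x) ∈ P.asIdeal := by
      intro x
      refine P.isPrime.mem_of_pow_mem 2 ?_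
      have e : (((combHom B 1 0).comp (restrHom B 1 0) x - x) ^ 2) = 0 := by
        rw [pow_two]
        apply TrivSqZeroExt.ext <;>
          simp [restrHom, combHom, TrivSqZeroExt.fst_map, TrivSqZeroExt.snd_map]
      rw [e]; exact P.asIdeal.zero_mem
    refine ⟨(PrimeSpectrum.comap (combHom B 1 0) P), PrimeSpectrum.ext ?_⟩
    ext x
    show (combHom B 1 0) ((restrHom B 1 0) x) ∈ P.asIdeal ↔ x ∈ P.asIdeal
    constructor <;> intro h
    · simpa using P.asIdeal.sub_mem h (hnil x)
    · simpa using P.asIdeal.add_mem (hnil x) h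

variable {B f} {X : Over S} [MonObj X] {v w : LieS.dpt B f ⟶ X}

theorem scale_zero_comp (hv : LieS.zeroSec B f ≫ v = 1) : LieS.scale B f 0 ≫ v = 1 := by
  rw [scale_zero, Category.assoc, hv, MonObj.comp_one]

/-- Rescaling is additive. -/
theorem scale_add_comp (hv : LieS.zeroSec B f ≫ v = 1) (a b : B) :
    LieS.scale B f (a + b) ≫ v = (LieS.scale B f a ≫ v) * (LieS.scale B f b ≫ v) := by
  have h : comb B f a b ≫ v = (comb B f a 0 ≫ v) * (comb B f 0 b ≫ v) := by
    apply t3_hom_ext
    all_goals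
      simp only [MonObj.comp_mul, ← Category.assoc, restr_comb]
      simp only [zero_mul, mul_zero, add_zero, zero_add, scale_zero_comp hv, _root_.one_mul, _root_.mul_one]
  have := congrArg (fun p => restr B f 1 1 ≫ p) h
  simpa [MonObj.comp_mul, ← Category.assoc, restr_comb] using this

/-- Points restricting to the unit along the zero section commute. -/
theorem mul_comm_of_zeroSec (hv : LieS.zeroSec B f ≫ v = 1) (hw : LieS.zeroSec B f ≫ w = 1) :
    v * w = w * v := by
  have h : (comb B f 1 0 ≫ v) * (comb B f 0 1 ≫ w) = (comb B f 0 1 ≫ w) * (comb B f 1 0 ≫ v) := by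
    apply t3_hom_ext
    all_goals
      simp only [MonObj.comp_mul, ← Category.assoc, restr_comb]
      simp only [zero_mul, mul_zero, add_zero, zero_add, scale_zero_comp hv,
        scale_zero_comp hw, _root_.one_mul, _root_.mul_one]
  have := congrArg (fun p => restr B f 1 1 ≫ p) h
  simpa [MonObj.comp_mul, ← Category.assoc, restr_comb, scale_one] using this

theorem isUnit_of_zeroSec (hv : LieS.zeroSec B f ≫ v = 1) : IsUnit v := by
  have h : ∀ a : B, (LieS.scale B f a ≫ v) * (LieS.scale B f (-a) ≫ v) = 1 := fun a => by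
    rw [← scale_add_comp hv, add_neg_cancel, scale_zero_comp hv]
  have h1 := h 1
  have h2 := h (-1)
  rw [scale_one, Category.id_comp] at h1
  rw [neg_neg, scale_one, Category.id_comp] at h2
  exact ⟨⟨v, _, h1, h2⟩, rfl⟩

end Groth.Agent.LieSLib
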